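import Cfsg.Agent.Lib.DCE.Ly.Cov.Beta
import Cfsg.Agent.Lib.DCE.Orb

/-! The covering of the subgroup `G₂(5)` by double cosets of the subgroups of the nodes and of `K`. -/

namespace Cfsg.Agent.Lib.DCE.Ly.Cov.Base

open Cfsg.Agent.Lib.TC.Core Cfsg.Agent.Lib.TC.Pres Cfsg.Agent.Lib.TC.Perm Cfsg.Agent.Lib.TC.Main
  Cfsg.Agent.Lib.TC.Chain Cfsg.Agent.Lib.TC.Iso
  Cfsg.Agent.Lib.DCE.Ly.Exp Cfsg.Agent.Lib.DCE.Ly.Setup Cfsg.Agent.Lib.DCE Cfsg.Agent.Lib.DCE.Ly.Rules
  Cfsg.Agent.Lib.DCE.Ly.Gens Cfsg.Agent.Lib.DCE.Ly.Steps Cfsg.Agent.Lib.DCE.Ly.Rows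
  Cfsg.Agent.Lib.DCE.Ly.Cov.Beta Cfsg.Agent.Lib.DCE.Orb

set_option maxRecDepth 100000

/-- The columns of `Q`. -/
abbrev KQ := Cfsg.Agent.Lib.DCE.Ly.H.Rels.K

/-- The relators of `Q`. -/
abbrev RQ := Cfsg.Agent.Lib.DCE.Ly.H.Rels.Rel

/-- The words of the subgroup `⟨a, b, c⟩`. -/
abbrev subsQ := Cfsg.Agent.Lib.DCE.Ly.H.QTab.subs

/-- The data of the table of `Q`. -/
theorem okQ : Ok KQ RQ Cfsg.Agent.Lib.DCE.Ly.H.QTab.cert ptQ Cfsg.Agent.Lib.DCE.Ly.H.Rels.rels subsQ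
    Cfsg.Agent.Lib.DCE.Ly.H.QTab.witT.get := Cfsg.Agent.Lib.DCE.Ly.H.QOk.ok

instance neZeroQ : NeZero ptQ.n := okQ.npos

instance finiteQ : Finite Q := Nat.finite_of_card_ne_zero (by
  rw [Cfsg.Agent.Lib.DCE.Ly.H.Tgt.card_Q]; norm_num)

theorem card_Q : Nat.card Q = 5859000000 := Cfsg.Agent.Lib.DCE.Ly.H.Tgt.card_Q

theorem exists_phi : ∃ φ : Q →* Equiv.Perm (Fin ptQ.n), ∀ c, c < KQ.k → φ (KQ.E RQ c) = okQ.hG.EP c :=
  okQ.exists_action

/-- The action of `Q` on the cosets of `⟨a, b, c⟩`. -/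
noncomputable def phi : Q →* Equiv.Perm (Fin ptQ.n) := Classical.choose exists_phi

theorem phi_spec : ∀ c, c < KQ.k → phi (KQ.E RQ c) = okQ.hG.EP c := Classical.choose_spec exists_phi

theorem EQ_eq : EQ = KQ.E RQ := rfl

theorem lt_of_lt10 {w : List Nat} (hw : lt10 w = true) : ∀ z ∈ w, z < KQ.k := fun z hz => lt10_spec hw z hz

/-- The words of the generators of `K`. -/
abbrev tK : List (List Nat) := kwT.take 8

/-- The subgroup `K` in `Q`. -/
noncomputable def Kq : Subgroup Q := subOf KQ RQ tK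

theorem EQ_word_inv (w : List Nat) (hw : lt10 w = true) : prodA EQ (invW invQ w) = (prodA EQ w)⁻¹ :=
  prodA_invW EQ invQ w (fun c hc => EQ_inv c (lt10_spec hw c hc))

theorem prodA_kw_mem : ∀ i, i < 16 → prodA EQ (kwT.getD i []) ∈ Kq := by
  intro i hi
  by_cases h8 : i < 8
  · apply Subgroup.subset_closure
    refine ⟨kwT.getD i [], ?_, rfl⟩
    have : ∀ i, i < 8 → kwT.getD i [] ∈ tK := by decide +kernel
    exact this i h8
  · obtain ⟨j, rfl⟩ : ∃ j, i = j + 8 := ⟨i - 8, by omega⟩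
    rw [kw_neg j (by omega), EQ_word_inv _ (kw_lt j (by omega))]
    apply Subgroup.inv_mem
    apply Subgroup.subset_closure
    refine ⟨kwT.getD j [], ?_, rfl⟩
    have : ∀ i, i < 8 → kwT.getD i [] ∈ tK := by decide +kernel
    exact this j (by omega)

theorem prodA_kL_mem (κ : List Nat) (hκ : ltB 16 κ = true) : prodA EQ (kL κ) ∈ Kq := by
  have h := ltB_spec hκ
  clear hκ
  induction κ with
  | nil => exact Subgroup.one_mem _
  | cons i κ ih =>
    have h1 : kL (i :: κ) = kwT.getD i [] ++ kL κ := by simp [kL]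
    rw [h1, prodA_append]
    exact Subgroup.mul_mem _ (ih fun y hy => h y (by simp [hy])) (prodA_kw_mem i (h i (by simp)))

/-! ### The subgroup `⟨a, b, c⟩` is a union of cosets of `K` -/

/-- The check of the action of a letter on the cosets of `K`. -/
noncomputable def chkA (s i : Nat) : Bool :=
  andB (Nat.blt ((aT.getD s []).getD i (0, [])).1 5) (andB (ltB 16 ((aT.getD s []).getD i (0, [])).2)
    (wEq (beta.getD i [] ++ subsQ.getD s []) (kL ((aT.getD s []).getD i (0, [])).2 ++ beta.getD ((aT.getD s []).getD i (0, [])).1 [])))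

theorem hA : ∀ s, s < 6 → ∀ i, i < 5 → chkA s i = true := by decide +kernel

theorem hsubs_lt : ∀ l ∈ subsQ, lt10 l = true := by decide +kernel

theorem hsubs_inv : ∀ l ∈ subsQ, invW invQ l ∈ subsQ := by decide +kernel

theorem step_A (l : List Nat) (hl : l ∈ subsQ) (y : Q)
    (hy : ∃ i, i < 5 ∧ ∃ κ ∈ Kq, y = prodA EQ (beta.getD i []) * κ) :
    ∃ i, i < 5 ∧ ∃ κ ∈ Kq, prodA EQ l * y = prodA EQ (beta.getD i []) * κ := by
  obtain ⟨i, hi, κ, hκ, rfl⟩ := hy
  obtain ⟨s, hs6, rfl⟩ : ∃ s, s < 6 ∧ l = subsQ.getD s [] := by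
    obtain ⟨s, hs, hl2⟩ := List.getElem_of_mem hl
    refine ⟨s, hs, ?_⟩
    rw [List.getD_eq_getElem _ _ hs]
    exact hl2.symm
  have h := hA s hs6 i hi
  rw [chkA, andB_eq_true, andB_eq_true] at h
  obtain ⟨h1, h2, h3⟩ := h
  have h4 := prodA_EQ_eq h3
  rw [prodA_append, prodA_append] at h4
  refine ⟨_, Nat.le_of_ble_eq_true h1, _, Subgroup.mul_mem _ (prodA_kL_mem _ h2) hκ, ?_⟩
  rw [← mul_assoc, h4, mul_assoc]

/-- The covering of `⟨a, b, c⟩`. -/
theorem acov (a : Q) (ha : a ∈ subOf KQ RQ subsQ) :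
    ∃ i, i < 5 ∧ ∃ κ ∈ Kq, a = prodA EQ (beta.getD i []) * κ := by
  unfold subOf at ha
  induction ha using Subgroup.closure_induction_left with
  | one => exact ⟨0, by norm_num, 1, Subgroup.one_mem _, by simp [beta, prodA_nil]⟩
  | mul_left x hx y hy ih =>
    obtain ⟨l, hl, rfl⟩ := hx
    exact step_A l hl y ih
  | inv_mul_cancel x hx y hy ih =>
    obtain ⟨l, hl, rfl⟩ := hx
    have h1 : (prodA (KQ.E RQ) l)⁻¹ = prodA EQ (invW invQ l) := (EQ_word_inv l (hsubs_lt l hl)).symm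
    rw [h1]
    exact step_A _ (hsubs_inv l hl) y ih

theorem card_A : Nat.card (subOf KQ RQ subsQ) * 3906 = 5859000000 := by
  have h1 := Subgroup.card_mul_index (subOf KQ RQ subsQ)
  rw [okQ.index_eq, card_Q] at h1
  exact h1

/-- The order of `K`. -/
theorem card_Kq_ge : 300000 ≤ Nat.card Kq := by
  have h : ∀ a : subOf KQ RQ subsQ, ∃ p : Fin 5 × Kq, (a : Q) = prodA EQ (beta.getD p.1.1 []) * (p.2 : Q) := by
    intro a
    obtain ⟨i, hi, κ, hκ, e⟩ := acov a.1 a.2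
    exact ⟨(⟨i, hi⟩, ⟨κ, hκ⟩), e⟩
  choose f hf using h
  have hinj : Function.Injective f := by
    intro a b hab
    apply Subtype.ext
    rw [hf a, hf b, hab]
  have h1 := Nat.card_le_card_of_injective f hinj
  rw [Nat.card_prod, Nat.card_fin] at h1
  have h2 := card_A
  omega

/-! ### The subgroup `K` in the group -/

/-- The image of `K`. -/
noncomputable def KK : Subgroup Γ := Kq.map iota

theorem hKz : ∀ k ∈ KK, zz⁻¹ * k * zz ∈ HH := by
  have hle : Kq ≤ (HH.comap (MulAut.conj zz⁻¹).toMonoidHom).comap iota := by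
    rw [Kq, subOf, Subgroup.closure_le]
    rintro _ ⟨l, hl, rfl⟩
    have hm : ∀ l ∈ tK, ∃ i, i < 8 ∧ l = kwT.getD i [] := by decide +kernel
    obtain ⟨i, hi, rfl⟩ := hm l hl
    have h1 := zc_all i (by omega)
    have h2 : iota (prodA (KQ.E RQ) (kwT.getD i [])) = ev (kwT.getD i []) :=
      iota_prodA _ (lt10_spec (kw_lt i (by omega)))
    change (MulAut.conj zz⁻¹).toMonoidHom (iota (prodA (KQ.E RQ) (kwT.getD i []))) ∈ HH
    rw [h2]
    change zz⁻¹ * ev (kwT.getD i []) * zz⁻¹⁻¹ ∈ HH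
    rw [inv_inv, h1]
    exact ev_mem _ (ks_lt i (by omega))
  rintro _ ⟨κ, hκ, rfl⟩
  have := hle hκ
  change zz⁻¹ * iota κ * zz⁻¹⁻¹ ∈ HH at this
  rwa [inv_inv] at this

/-! ### The representatives -/

/-- The representatives of the double cosets of the node `j`. -/
def D (j : Nat) : Set Γ := {x | ∃ e ∈ rowsT, e.1 = j ∧ x = ev e.2.1}

/-- A row as a statement. -/
theorem row_F : ∀ e ∈ rowsT, F e.1 e.2.1 e.2.2.1 e.2.2.2 := List.forall_iff_forall_mem.1 allRows

theorem rows_lt : ∀ e ∈ rowsT, e.2.2.1 < 5 ∧ lt10 e.2.2.2 = true := by decide +kernel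

/-- The check of an identity of the covering. -/
noncomputable def chkCov (j : Nat) (w : List Nat) (i : Nat) (x : Nat × List Nat × List Nat) : Bool :=
  andB (Nat.beq (rowsT.getD x.1 (0, [], 0, [])).1 j) (andB (Nat.blt x.1 66) (andB (ltG j x.2.1) (andB (ltB 16 x.2.2)
    (wEq (beta.getD i [] ++ w) (kL x.2.2 ++ ((rowsT.getD x.1 (0, [], 0, [])).2.1 ++ sW j x.2.1))))))

/-- A subgroup of `Q` maps into the subgroup of a node. -/
theorem T_le {j : Nat} (hj : j < 5) (n : Nat) :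
    subOf KQ RQ ((gensT.getD j []).take n) ≤ (S j).comap iota := by
  rw [subOf, Subgroup.closure_le]
  rintro _ ⟨l, hl, rfl⟩
  have hl2 : l ∈ gensT.getD j [] := List.mem_of_mem_take hl
  obtain ⟨i, hi, rfl⟩ := List.getElem_of_mem hl2
  have h1 := hgens j hj i hi
  rw [List.getD_eq_getElem _ _ hi] at h1
  have hlt : lt10 (gensT.getD j [])[i] = true := by
    have hall : ∀ j, j < 5 → ∀ l ∈ gensT.getD j [], lt10 l = true := by decide +kernel
    exact hall j hj _ (List.getElem_mem hi)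
  change iota (prodA (KQ.E RQ) _) ∈ S j
  have h2 : iota (prodA (KQ.E RQ) (gensT.getD j [])[i]) = ev (gensT.getD j [])[i] :=
    iota_prodA _ (lt10_spec hlt)
  rw [h2]
  exact h1

section node

variable {j : Nat} (hj : j < 5) {n : Nat} {lab oP oW oD repr : Nat → Nat} {nl : Nat}
  {rootW : List (List Nat)} {covT : List (List (Nat × List Nat × List Nat))}

theorem hts_lt (hj : j < 5) : ∀ l ∈ (gensT.getD j []).take n, ∀ z ∈ l, z < KQ.k := by
  intro l hl
  have hl2 : l ∈ gensT.getD j [] := List.mem_of_mem_take hl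
  have hall : ∀ j, j < 5 → ∀ l ∈ gensT.getD j [], lt10 l = true := by decide +kernel
  exact lt_of_lt10 (hall j hj l hl2)

include hj in
/-- The covering for a node. -/
theorem cover_node
    (hlab : ptQ.orbRange ((gensT.getD j []).take n) lab oP oW oD repr 0 ptQ.n = true)
    (hlt : allBelow lab nl 3906 = true)
    (hroot : ∀ l, l < nl → andB (lt10 (rootW.getD l [])) (Nat.beq (ptQ.val (rootW.getD l []) 0) (repr l)) = true)
    (hcov : ∀ l, l < nl → ∀ i, i < 5 → chkCov j (rootW.getD l []) i ((covT.getD l []).getD i (0, [], [])) = true) :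
    ∀ h ∈ HH, ∃ d ∈ D j, ∃ s ∈ S j, ∃ k ∈ KK, h = s * d * k := by
  rintro _ ⟨q, rfl⟩
  -- the point of `q`
  obtain ⟨t, ht, r, hr, e⟩ := T_conn okQ phi phi_spec (hts_lt hj) hlab (phi q 0)
  have hl_lt : lab (phi q 0).1 < nl := allBelow_spec hlt _ (phi q 0).2
  set l := lab (phi q 0).1 with hl
  have hroot' := hroot l hl_lt
  rw [andB_eq_true] at hroot'
  obtain ⟨hr1, hr2⟩ := hroot'
  have hr3 : ptQ.val (rootW.getD l []) 0 = repr l := Nat.eq_of_beq_eq_true hr2
  -- the element of the representative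
  set d0 := prodA EQ (rootW.getD l []) with hd0
  have hphi_d : phi d0 0 = r := by
    apply Fin.ext
    have := phi_prodA_apply okQ.hPk okQ.hG phi phi_spec (rootW.getD l []) (lt_of_lt10 hr1) 0
    rw [hr, ← hr3]
    exact this
  -- the element of `⟨a, b, c⟩`
  have hfix : phi ((t * d0)⁻¹ * q) 0 = 0 := by
    rw [map_mul, map_inv, map_mul, Equiv.Perm.mul_apply, Equiv.Perm.inv_eq_iff_eq, Equiv.Perm.mul_apply, hphi_d, e]
  have ha := mem_sub_of_fix okQ phi phi_spec _ hfix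
  obtain ⟨i, hi, κ, hκ, hae⟩ := acov _ ha
  have hq : q = t * d0 * (prodA EQ (beta.getD i []) * κ) := by
    rw [← hae]
    group
  -- the identity
  have hc := hcov l hl_lt i hi
  rw [chkCov, andB_eq_true, andB_eq_true, andB_eq_true, andB_eq_true] at hc
  obtain ⟨h1, h2, h3, h4, h5⟩ := hc
  set x := (covT.getD l []).getD i (0, [], []) with hx
  set row := rowsT.getD x.1 (0, [], 0, []) with hrow
  have hrowmem : row ∈ rowsT := by
    have h66 : x.1 < rowsT.length := Nat.le_of_ble_eq_true h2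
    rw [hrow, List.getD_eq_getElem _ _ h66]
    exact List.getElem_mem h66
  have hid := prodA_EQ_eq h5
  rw [prodA_append, prodA_append, prodA_append] at hid
  -- the images
  have h0 := h5
  rw [wEq, andB_eq_true, andB_eq_true] at h0
  have hlt1 : ∀ z ∈ kL x.2.2 ++ (row.2.1 ++ sW j x.2.1), z < 10 := lt10_spec h0.2.1
  have e1 : iota (prodA EQ (sW j x.2.1)) = ev (sW j x.2.1) :=
    iota_prodA _ fun c hc => hlt1 c (by simp [hc])
  have e2 : iota (prodA EQ row.2.1) = ev row.2.1 :=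
    iota_prodA _ fun c hc => hlt1 c (by simp [hc])
  have e3 : iota (prodA EQ (kL x.2.2)) = ev (kL x.2.2) :=
    iota_prodA _ fun c hc => hlt1 c (by simp [hc])
  refine ⟨ev row.2.1, ⟨row, hrowmem, Nat.eq_of_beq_eq_true h1, rfl⟩,
    iota t * ev (sW j x.2.1), Subgroup.mul_mem _ (T_le hj n ht) (sW_mem hj _ h3),
    iota (prodA EQ (kL x.2.2) * κ), ⟨_, Subgroup.mul_mem _ (prodA_kL_mem _ h4) hκ, rfl⟩, ?_⟩
  have hq2 : q = t * (prodA EQ (beta.getD i []) * d0 |> fun _ => d0 * prodA EQ (beta.getD i [])) * κ := by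
    rw [hq]
    group
  have hq3 : d0 * prodA EQ (beta.getD i []) =
      prodA EQ (sW j x.2.1) * prodA EQ row.2.1 * prodA EQ (kL x.2.2) := by
    rw [hd0, hid]
  rw [hq2]
  simp only []
  rw [hq3]
  simp only [map_mul, e1, e2, e3]
  group

end node

/-- The covering for the node `0`. -/
theorem cover_zero : ∀ h ∈ HH, ∃ d ∈ D 0, ∃ s ∈ S 0, ∃ k ∈ KK, h = s * d * k := by
  intro h hh
  refine ⟨ev [], ⟨(0, [], 1, []), by decide +kernel, rfl, rfl⟩, h, ?_, 1, Subgroup.one_mem _, ?_⟩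
  · rw [mem_S]
    have h0 : W 0 = 1 := rfl
    rw [h0]
    simpa using hh
  · simp [ev_nil]

end Cfsg.Agent.Lib.DCE.Ly.Cov.Base
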