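import Cfsg.Agent.Lib.DCE.Ly.Rows

/-! The cosets of `K` in `⟨a, b, c⟩`. -/

namespace Cfsg.Agent.Lib.DCE.Ly.Cov.Beta

set_option maxRecDepth 100000

/-- The representatives of the cosets. -/
def beta : List (List Nat) := [[],[1],[6],[1,0],[6,6]]

/-- The action of the letters on the cosets. -/
def aT : List (List (Nat × List Nat)) :=
  [[(0,[5]),(3,[]),(2,[6]),(1,[5,5]),(4,[7])],[(1,[]),(3,[7,6,5]),(0,[]),(4,[13,14,15]),(2,[])],[(0,[0]),(1,[2]),(2,[3]),(3,[0,5,11,13]),(4,[14,3,9,6])],[(0,[13]),(3,[13,13]),(2,[14]),(1,[]),(4,[15])],[(2,[]),(0,[]),(4,[]),(1,[13,14,15]),(3,[7,6,5])],[(0,[8]),(1,[10]),(2,[11]),(3,[5,3,13,8]),(4,[14,1,11,6])]]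

end Cfsg.Agent.Lib.DCE.Ly.Cov.Beta
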