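import Cfsg.Agent.Lib.DCE.Ly.Cov.N2T
import Cfsg.Agent.Lib.DCE.Ly.Cov.Base

/-! The orbits on the cosets of `⟨a, b, c⟩` of the subgroup of the node `2`. -/

namespace Cfsg.Agent.Lib.DCE.Ly.Cov.N2

open Cfsg.Agent.Lib.TC.Core Cfsg.Agent.Lib.TC.Enc Cfsg.Agent.Lib.TC.Perm Cfsg.Agent.Lib.TC.Chain
  Cfsg.Agent.Lib.DCE.Ly.Setup Cfsg.Agent.Lib.DCE.Ly.Gens Cfsg.Agent.Lib.DCE.Ly.Cov.Base

set_option maxRecDepth 100000

/-- The number of generators. -/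
def nT : Nat := 2

/-- The generators. -/
abbrev ts : List (List Nat) := (gensT.getD 2 []).take 2

/-- The label of a point. -/
noncomputable def lab : Nat → Nat := cellF 9 511 20 1048575 0 7 Cfsg.Agent.Lib.DCE.Ly.Cov.N2T.tree.get
/-- The parent of a point. -/
noncomputable def oP : Nat → Nat := cellF 9 511 20 1048575 3 4095 Cfsg.Agent.Lib.DCE.Ly.Cov.N2T.tree.get
/-- The word of a point. -/
noncomputable def oW : Nat → Nat := cellF 9 511 20 1048575 15 1 Cfsg.Agent.Lib.DCE.Ly.Cov.N2T.tree.get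
/-- The depth of a point. -/
noncomputable def oD : Nat → Nat := cellF 9 511 20 1048575 16 15 Cfsg.Agent.Lib.DCE.Ly.Cov.N2T.tree.get
/-- The representatives of labels. -/
def repr (l : Nat) : Nat := [0,1,4,12,133].getD l 0
/-- The number of labels. -/
def nl : Nat := 5
/-- The words of the representatives. -/
def rootW : List (List Nat) :=
  [[],[3],[3,4],[3,2,4],[3,7,0,4]]
/-- The words for the elements of the representatives. -/
def covT : List (List (Nat × List Nat × List Nat)) :=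
  [[(3,[],[]),(10,[],[]),(10,[0,3,3,2,1,1],[5,6,7]),(10,[3,3,3],[]),(10,[2,1,1,1,1,0],[6,7])],
   [(27,[2,1,1,1,1,0,1,2,1,1],[3,12,7]),(20,[3,3,0,3,2,3,2,3,3],[4,13,13]),(20,[3,3,0,3,2,3,3,3,2],[5,4,14,15]),(20,[3,3,0,3,2,3,2,3,3,3],[4,13,13]),(20,[1,0,3,0,3,2,1],[4,14,15])],
   [(19,[2,1,0,1,2,3,0,3,2],[5,6,10,3,7,6,13]),(19,[1,0,1,2,3,3,3,2,1,2],[0,14,2,5,7,6]),(15,[1,0,1,1,2,1],[10,5,5,6,10]),(19,[1,0,3,0,3,2,1,1,1,0],[0,0,13,14,13,2]),(19,[0,3,0,1,2,1,1,0],[0,0,6,1,3])],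
   [(39,[0,3,3,2,3,2,1,0],[13,2,3,6,5]),(39,[1,1,1,0,1,2,3,2,1],[7,6,1,0,13,3]),(30,[3,0,3,3,3,2,3,2,1],[0,15,9,6,10,5,15]),(29,[1,2,1,0,3],[0,4,9,9,14,13]),(39,[1,0,1,1,1,0,3,0,1,2],[13,14,13,11,7,14,11])],
   [(45,[0,3,2,1,0,3,0,3,2],[10,11,13,10,12]),(45,[1,1,0,1,2,1,2,1],[5,5,11,10,6]),(45,[1,1,0,3,3,3,0,3],[2,14,0,5,15,1]),(64,[2,3,3,0,1,2,3],[0,14,8,2,15,14,13]),(45,[2,1,0,1,1,1,0],[1,2,7,12,14,13])]]

theorem hlab : ptQ.orbRange ts lab oP oW oD repr 0 ptQ.n = true := by decide +kernel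

theorem hlt : allBelow lab nl 3906 = true := by decide +kernel

theorem hroot : ∀ l, l < nl → andB (lt10 (rootW.getD l [])) (Nat.beq (ptQ.val (rootW.getD l []) 0) (repr l)) = true := by
  decide +kernel

theorem hcov : ∀ l, l < nl → ∀ i, i < 5 → chkCov 2 (rootW.getD l []) (i) ((covT.getD l []).getD i (0, [], [])) = true := by
  decide +kernel

end Cfsg.Agent.Lib.DCE.Ly.Cov.N2
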