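import Cfsg.Agent.Lib.DCE.Ly.Cov.N3T
import Cfsg.Agent.Lib.DCE.Ly.Cov.Base

/-! The orbits on the cosets of `⟨a, b, c⟩` of the subgroup of the node `3`. -/

namespace Cfsg.Agent.Lib.DCE.Ly.Cov.N3

open Cfsg.Agent.Lib.TC.Core Cfsg.Agent.Lib.TC.Enc Cfsg.Agent.Lib.TC.Perm Cfsg.Agent.Lib.TC.Chain
  Cfsg.Agent.Lib.DCE.Ly.Setup Cfsg.Agent.Lib.DCE.Ly.Gens Cfsg.Agent.Lib.DCE.Ly.Cov.Base

set_option maxRecDepth 100000

/-- The number of generators. -/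
def nT : Nat := 3

/-- The generators. -/
abbrev ts : List (List Nat) := (gensT.getD 3 []).take 3

/-- The label of a point. -/
noncomputable def lab : Nat → Nat := cellF 9 511 22 4194303 0 15 Cfsg.Agent.Lib.DCE.Ly.Cov.N3T.tree.get
/-- The parent of a point. -/
noncomputable def oP : Nat → Nat := cellF 9 511 22 4194303 4 4095 Cfsg.Agent.Lib.DCE.Ly.Cov.N3T.tree.get
/-- The word of a point. -/
noncomputable def oW : Nat → Nat := cellF 9 511 22 4194303 16 3 Cfsg.Agent.Lib.DCE.Ly.Cov.N3T.tree.get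
/-- The depth of a point. -/
noncomputable def oD : Nat → Nat := cellF 9 511 22 4194303 18 15 Cfsg.Agent.Lib.DCE.Ly.Cov.N3T.tree.get
/-- The representatives of labels. -/
def repr (l : Nat) : Nat := [0,2,3,4,14,26,32,33,78].getD l 0
/-- The number of labels. -/
def nl : Nat := 9
/-- The words of the representatives. -/
def rootW : List (List Nat) :=
  [[],[4],[3,2],[3,4],[3,2,6],[3,7,4],[4,0,3],[4,0,4],[3,2,6,7]]
/-- The words for the elements of the representatives. -/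
def covT : List (List (Nat × List Nat × List Nat)) :=
  [[(5,[],[]),(11,[0,1,3,4,0,1],[13,14,8,1,5]),(11,[3,1,1,0],[5,6,5,1,7,6,1,5]),(11,[0,1,0,4,0,1],[6,9,9,0]),(11,[1,2,1,0,2,0,5],[6,5,1,7,6,1,5])],
   [(16,[1],[4,8,5,15,14]),(16,[4],[10,6,5,15,12]),(16,[],[1,6,1,6,1]),(16,[1,1],[10,14,3,15,14]),(14,[0,0,0,0,5,4],[3,5,1,5])],
   [(62,[0,1,1,2,3,5],[0,6,15,3,6]),(36,[0,0,5,0,2,0,5],[1,13,2,6,5,7,14]),(59,[3,1,2,3,4],[1,15,9,0,13]),(36,[1,0,2,3,4,2],[14,10,15,10,5,14]),(36,[2,2,0,5,3,2],[10,15,1,14,8,14])],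
   [(34,[1,2,0,5,1],[2,7,5,2,3,14]),(55,[1,1,0,0],[0,3,4,6]),(34,[5,1,0,0,0,5],[7,9,10,14,0,13]),(47,[0,0,4,3,3],[0,0,13,14,1,2]),(47,[1,3,5,3,1],[5,3,7,6,13,2,7])],
   [(26,[0,2,2,3,2],[4,7,0,0,7]),(26,[2,0,2,3,5,5],[10,5,2,6,2]),(26,[5,0,2,3,1],[0,11,5,4,10]),(26,[0,5,4,0,1,3],[5,2,11,5,5,5]),(26,[1,0,5,3,1,2],[6,10,3,13])],
   [(53,[0,1,2,3,3,1,3],[3,6,13,10,9]),(53,[1,1,0,5,3,5],[0,1,15,14,10]),(65,[0,0,1,0,0],[9,6,1,10,7]),(53,[0,4,3,1,2,3],[2,5,4,5,7,10]),(53,[0,2,0,5,4],[5,1,6,15,8,14])],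
   [(28,[0,1,2,1,0,2],[2,9,11]),(28,[0,1,1,2,0,2],[9,11,0]),(28,[1,1,5],[0,9,2,11,11]),(28,[1,1,0,5,3,2,2],[7,2,9,11]),(28,[5,0,5,3,2,2],[15,0,12,14,9])],
   [(33,[1,0,0,5,4,0],[11,0,5,7]),(31,[2,0,4,5,3,5],[3,9,0,7,6]),(33,[1,2,1,3,5],[0,14,3,14,1]),(33,[2,0,2,3],[4,5,6,0,7,6,5]),(31,[2,3,2,4,3,3],[1,10,6,7,6,0,5])],
   [(46,[1,1,3,5,1],[3,5,6,7,14,13,10]),(58,[2,2,0,5,0,1],[3,10,14,10]),(46,[4,5,3,4,0],[0,5,4,5,7,3]),(58,[2,0,1,1,0,4],[8,15,0,4,14]),(58,[1,1,2,0,1],[0,6,9,8,5,7])]]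

/-- The biggest orbit. -/
def bigLab : Nat := 3

theorem hlab : ptQ.orbRange ts lab oP oW oD repr 0 ptQ.n = true := by decide +kernel

theorem hlt : allBelow lab nl 3906 = true := by decide +kernel

theorem hroot : ∀ l, l < nl → andB (lt10 (rootW.getD l [])) (Nat.beq (ptQ.val (rootW.getD l []) 0) (repr l)) = true := by
  decide +kernel

theorem hcov : ∀ l, l < nl → ∀ i, i < 5 → chkCov 3 (rootW.getD l []) (i) ((covT.getD l []).getD i (0, [], [])) = true := by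
  decide +kernel

end Cfsg.Agent.Lib.DCE.Ly.Cov.N3
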