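import Cfsg.Agent.Lib.DCE.Ly.Cov.N4T
import Cfsg.Agent.Lib.DCE.Ly.Cov.Base

/-! The orbits on the cosets of `⟨a, b, c⟩` of the subgroup of the node `4`. -/

namespace Cfsg.Agent.Lib.DCE.Ly.Cov.N4

open Cfsg.Agent.Lib.TC.Core Cfsg.Agent.Lib.TC.Enc Cfsg.Agent.Lib.TC.Perm Cfsg.Agent.Lib.TC.Chain
  Cfsg.Agent.Lib.DCE.Ly.Setup Cfsg.Agent.Lib.DCE.Ly.Gens Cfsg.Agent.Lib.DCE.Ly.Cov.Base

set_option maxRecDepth 100000

/-- The number of generators. -/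
def nT : Nat := 3

/-- The generators. -/
abbrev ts : List (List Nat) := (gensT.getD 4 []).take 3

/-- The label of a point. -/
noncomputable def lab : Nat → Nat := cellF 9 511 22 4194303 0 15 Cfsg.Agent.Lib.DCE.Ly.Cov.N4T.tree.get
/-- The parent of a point. -/
noncomputable def oP : Nat → Nat := cellF 9 511 22 4194303 4 4095 Cfsg.Agent.Lib.DCE.Ly.Cov.N4T.tree.get
/-- The word of a point. -/
noncomputable def oW : Nat → Nat := cellF 9 511 22 4194303 16 3 Cfsg.Agent.Lib.DCE.Ly.Cov.N4T.tree.get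
/-- The depth of a point. -/
noncomputable def oD : Nat → Nat := cellF 9 511 22 4194303 18 15 Cfsg.Agent.Lib.DCE.Ly.Cov.N4T.tree.get
/-- The representatives of labels. -/
def repr (l : Nat) : Nat := [0,2,4,11,12,21,22,43,75,116].getD l 0
/-- The number of labels. -/
def nl : Nat := 10
/-- The words of the representatives. -/
def rootW : List (List Nat) :=
  [[],[4],[3,4],[3,2,3],[3,2,4],[3,4,6],[3,4,7],[3,2,0,7],[3,2,6,2],[3,4,5,7]]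
/-- The words for the elements of the representatives. -/
def covT : List (List (Nat × List Nat × List Nat)) :=
  [[(7,[],[]),(12,[0,0,1,1,1,1],[14,13]),(9,[0,0],[5,6,7]),(12,[0,0,1],[14,13]),(12,[0,0,1,1,1,2],[6,7])],
   [(22,[1,5,4],[0,5,7,3,14,9]),(22,[1,2,1],[3,6,5,7,3,2]),(22,[4,5,4],[5,5,7,3,7,0]),(22,[1,2,4],[6,15,8,14,0]),(25,[],[3,3,0,0])],
   [(60,[0,1,0,1],[0,2,1,6,3]),(57,[1,0,4,4,5,3],[5,6,9,7,5]),(60,[1,1,1,3,1],[5,10,6,10,7,11]),(35,[1,5],[0,10,13,11,7]),(35,[1,0,1,1,2,0,4],[6,15,1,6,5,11,14])],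
   [(54,[0,4,0,5],[7,4,6,9,7,5]),(48,[5],[3,3,6,8,5]),(63,[4,4,0,4,0,5,0],[1,5,9,15,11,14,15]),(48,[0,4,0,5],[13,11,12,13,13]),(63,[1,0,1,0,4,4,5],[2,7,6,0,7,5,9])],
   [(41,[5],[14,10,12,15,3]),(41,[1,1,2,0,1,3],[5,6,3,5,2,15,14,13]),(42,[4,0,4,0,4,4],[1,2,14,8,3,13]),(37,[1,1,0,1,0,1,3,5],[8,9,7,1,6,13]),(42,[1,1,0,1,0,1,3,1],[5,6,7,0,1,13,14,13])],
   [(51,[4,0,2,3,4],[1,5,5,4,6,8]),(51,[1,2],[5,6,15,14,11,8,5]),(43,[4,5,3,1],[5,10,6,2,7]),(43,[0,1,0,5],[6,3,5,6,1,7,6,5]),(38,[0,4,0,1,3,5,4],[9,12,14,1,15,14])],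
   [(24,[0,1,1,1,0],[9,15,3,14,10]),(23,[1,0,1,1,1,0,2],[6,0,5,11,7,6,3]),(21,[0,1,0,1,1,1,0],[7,2,14,3,8,5]),(18,[4,0,4,0,4,0],[2,7,5,8,11,15]),(17,[1,0,4,0,2,3,1],[3,5,6,2,5,2])],
   [(44,[1,1,0,4,3,4],[9,15,11,10,14,15]),(40,[0,1,1,2,0,4,3],[0,7,1,10,5,5]),(32,[1,0,1,1,1,0,2],[0,3,14,8,5,14]),(44,[0,4,4,5],[13,8,2,6]),(40,[4,5,0,1,3],[0,5,11,14,2,7])],
   [(61,[1,0,1,3,1,1],[11,14,11,14,13]),(61,[1,0,5,0,1,3],[5,3,2,8,15,14]),(56,[1,1,0,4,0,2,0],[0,14,2,7,2,5]),(56,[1,1,1,0,4,0,1],[14,8,5,8]),(56,[0,5,0,4],[8,15,14,2,14])],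
   [(50,[0,1,2],[4,6,7,9,11,5]),(52,[0,1,0,1,1,1,3,5],[0,3,0,7,5,8]),(52,[1,1,0,4,0,4],[0,7,6,9,7,5,10]),(50,[3,4,5],[11,13,12,14]),(49,[4,4,5],[2,14,10,7,3])]]

theorem hlab : ptQ.orbRange ts lab oP oW oD repr 0 ptQ.n = true := by decide +kernel

theorem hlt : allBelow lab nl 3906 = true := by decide +kernel

theorem hroot : ∀ l, l < nl → andB (lt10 (rootW.getD l [])) (Nat.beq (ptQ.val (rootW.getD l []) 0) (repr l)) = true := by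
  decide +kernel

theorem hcov : ∀ l, l < nl → ∀ i, i < 5 → chkCov 4 (rootW.getD l []) (i) ((covT.getD l []).getD i (0, [], [])) = true := by
  decide +kernel

end Cfsg.Agent.Lib.DCE.Ly.Cov.N4
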