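import Cfsg.Agent.Lib.DCE.Ly.Cov.N1
import Cfsg.Agent.Lib.DCE.Ly.Cov.N2
import Cfsg.Agent.Lib.DCE.Ly.Cov.N3
import Cfsg.Agent.Lib.DCE.Ly.Cov.N4

/-! The bound for the index of `G₂(5)` in the Lyons group. -/

namespace Cfsg.Agent.Lib.DCE.Ly.Cov.Bound

open Cfsg.Agent.Lib.TC.Core Cfsg.Agent.Lib.TC.Pres Cfsg.Agent.Lib.TC.Perm Cfsg.Agent.Lib.TC.Main
  Cfsg.Agent.Lib.TC.Chain Cfsg.Agent.Lib.TC.Iso
  Cfsg.Agent.Lib.DCE.Ly.Exp Cfsg.Agent.Lib.DCE.Ly.Setup Cfsg.Agent.Lib.DCE Cfsg.Agent.Lib.DCE.Ly.Rules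
  Cfsg.Agent.Lib.DCE.Ly.Gens Cfsg.Agent.Lib.DCE.Ly.Steps Cfsg.Agent.Lib.DCE.Ly.Rows
  Cfsg.Agent.Lib.DCE.Ly.Cov.Beta Cfsg.Agent.Lib.DCE.Orb Cfsg.Agent.Lib.DCE.Ly.Cov.Base

set_option maxRecDepth 100000

section orders

variable {j n : Nat} {lab oP oW oD repr : Nat → Nat}

theorem orbit_dvd' (hj : j < 5)
    (hlab : ptQ.orbRange ((gensT.getD j []).take n) lab oP oW oD repr 0 ptQ.n = true)
    (l r c : Nat) (hr0 : r < ptQ.n) (hr1 : repr l = r) (hr2 : lab r = l) (hc : countAcc lab l 0 ptQ.n 0 = c) :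
    c ∣ Nat.card (subOf KQ RQ ((gensT.getD j []).take n)) := by
  have h := T_dvd okQ phi phi_spec (hts_lt hj) hlab ⟨r, hr0⟩ (by
    change repr (lab r) = r
    rw [hr2, hr1])
  have h2 := ncard_label lab ptQ.n (lab r)
  change {i : Fin ptQ.n | lab i.1 = lab r}.ncard ∣ _ at h
  rw [h2, hr2, hc] at h
  exact h

end orders

theorem card_T2 : 6048 ≤ Nat.card (subOf KQ RQ N2.ts) := by
  have h1 : 1512 ∣ Nat.card (subOf KQ RQ N2.ts) :=
    orbit_dvd' (by norm_num) N2.hlab 2 _ 1512 (by decide +kernel) rfl (by decide +kernel) (by decide +kernel)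
  have h2 : 2016 ∣ Nat.card (subOf KQ RQ N2.ts) :=
    orbit_dvd' (by norm_num) N2.hlab 3 _ 2016 (by decide +kernel) rfl (by decide +kernel) (by decide +kernel)
  have h3 : 6048 ∣ Nat.card (subOf KQ RQ N2.ts) := by
    have := Nat.lcm_dvd h1 h2
    have h4 : Nat.lcm 1512 2016 = 6048 := by decide +kernel
    rwa [h4] at this
  exact Nat.le_of_dvd Nat.card_pos h3

theorem card_T4 : 1008 ≤ Nat.card (subOf KQ RQ N4.ts) := by
  have h1 : 1008 ∣ Nat.card (subOf KQ RQ N4.ts) :=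
    orbit_dvd' (by norm_num) N4.hlab 6 _ 1008 (by decide +kernel) rfl (by decide +kernel) (by decide +kernel)
  exact Nat.le_of_dvd Nat.card_pos h1

/-- The word of an element of the stabiliser in the node `E`. -/
def stabE : List Nat := [1,0,2,2,0,2,1,1]

/-- The word of an element of the stabiliser in the node `E`, in the letters. -/
def stabEw : List Nat := stabE.flatMap fun i => (gensT.getD 3 []).getD i []

theorem stabE_mem : prodA (KQ.E RQ) stabEw ∈ subOf KQ RQ N3.ts := by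
  have h : ∀ i ∈ stabE, prodA (KQ.E RQ) ((gensT.getD 3 []).getD i []) ∈ subOf KQ RQ N3.ts := by
    intro i hi
    apply Subgroup.subset_closure
    refine ⟨_, ?_, rfl⟩
    have : ∀ i ∈ stabE, (gensT.getD 3 []).getD i [] ∈ N3.ts := by decide +kernel
    exact this i hi
  unfold stabEw
  generalize stabE = m at h
  induction m with
  | nil => exact Subgroup.one_mem _
  | cons a m ih =>
    rw [List.flatMap_cons, prodA_append]
    exact Subgroup.mul_mem _ (ih fun y hy => h y (by simp [hy])) (h a (by simp))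

theorem stabE_lt : ∀ z ∈ stabEw, z < KQ.k := by decide +kernel

theorem card_T3 : 2880 ≤ Nat.card (subOf KQ RQ N3.ts) := by
  have hr0 : 4 < ptQ.n := by decide +kernel
  have h := T_two okQ phi phi_spec (hts_lt (j := 3) (n := 3) (by norm_num)) N3.hlab ⟨4, hr0⟩
    (by
      change N3.repr (N3.lab 4) = 4
      decide +kernel) (prodA (KQ.E RQ) stabEw) stabE_mem
    (by
      apply Fin.ext
      rw [phi_prodA_apply okQ.hPk okQ.hG phi phi_spec stabEw stabE_lt]
      change ptQ.val stabEw 4 = 4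
      decide +kernel)
    (word_ne_one okQ stabEw stabE_lt 0 (by decide +kernel) (by decide +kernel))
  have h2 := ncard_label N3.lab ptQ.n (N3.lab 4)
  change 2 * {i : Fin ptQ.n | N3.lab i.1 = N3.lab 4}.ncard ≤ _ at h
  rw [h2] at h
  have h3 : countAcc N3.lab (N3.lab 4) 0 ptQ.n 0 = 1440 := by decide +kernel
  rw [h3] at h
  exact h

/-! ### The indices -/

theorem index_bound (j : Nat) (T : Subgroup Q) (hT : T ≤ (S j).comap iota) (o m : Nat) (ho : o ≤ Nat.card T)
    (hm : 5859000000 = m * o) (h0 : 0 < o) :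
    ((S j).subgroupOf HH).index ≠ 0 ∧ ((S j).subgroupOf HH).index ≤ m := by
  have h1 : (((S j).subgroupOf HH).comap iota.rangeRestrict).index = ((S j).subgroupOf HH).index :=
    Subgroup.index_comap_of_surjective _ iota.rangeRestrict_surjective
  have h2 : ((S j).subgroupOf HH).comap iota.rangeRestrict = (S j).comap iota := by
    ext x
    rfl
  rw [h2] at h1
  rw [← h1]
  have h3 : ((S j).comap iota).index ∣ T.index := Subgroup.index_dvd_of_le hT
  have h4 := Subgroup.card_mul_index T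
  rw [card_Q] at h4
  have h5 : T.index ≠ 0 := by
    intro h6
    rw [h6] at h4
    simp at h4
  have h6 : T.index ≤ m := by
    have h7 : T.index * o ≤ m * o := by
      rw [← hm, ← h4, mul_comm]
      exact Nat.mul_le_mul_right _ ho
    exact Nat.le_of_mul_le_mul_right h7 h0
  refine ⟨?_, le_trans (Nat.le_of_dvd (Nat.pos_of_ne_zero h5) h3) h6⟩
  intro h8
  rw [h8] at h3
  exact h5 (Nat.eq_zero_of_zero_dvd h3)

theorem tK_eq : tK = (gensT.getD 1 []).take 8 := by decide +kernel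

theorem idx0 : ((S 0).subgroupOf HH).index ≠ 0 ∧ ((S 0).subgroupOf HH).index ≤ 1 := by
  have h : (S 0).subgroupOf HH = ⊤ := by
    rw [eq_top_iff]
    rintro ⟨x, hx⟩ _
    rw [Subgroup.mem_subgroupOf, mem_S]
    have h0 : W 0 = 1 := rfl
    rw [h0]
    simpa using hx
  rw [h, Subgroup.index_top]
  simp

theorem idx1 : ((S 1).subgroupOf HH).index ≠ 0 ∧ ((S 1).subgroupOf HH).index ≤ 19530 :=
  index_bound 1 Kq (by rw [Kq, tK_eq]; exact T_le (by norm_num) 8) 300000 19530 card_Kq_ge (by norm_num) (by norm_num)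

theorem idx2 : ((S 2).subgroupOf HH).index ≠ 0 ∧ ((S 2).subgroupOf HH).index ≤ 968750 :=
  index_bound 2 _ (T_le (by norm_num) 2) 6048 968750 card_T2 (by norm_num) (by norm_num)

theorem idx3 : ((S 3).subgroupOf HH).index ≠ 0 ∧ ((S 3).subgroupOf HH).index ≤ 2034375 :=
  index_bound 3 _ (T_le (by norm_num) 3) 2880 2034375 card_T3 (by norm_num) (by norm_num)

theorem idx4 : ((S 4).subgroupOf HH).index ≠ 0 ∧ ((S 4).subgroupOf HH).index ≤ 5812500 :=
  index_bound 4 _ (T_le (by norm_num) 3) 1008 5812500 card_T4 (by norm_num) (by norm_num)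

/-! ### The covering -/

theorem hcovAll : ∀ j : Fin 5, ∀ h ∈ HH, ∃ d ∈ D j.1, ∃ s ∈ S j.1, ∃ k ∈ KK, h = s * d * k := by
  intro j
  fin_cases j
  · exact cover_zero
  · exact cover_node (by norm_num) N1.hlab N1.hlt N1.hroot N1.hcov
  · exact cover_node (by norm_num) N2.hlab N2.hlt N2.hroot N2.hcov
  · exact cover_node (by norm_num) N3.hlab N3.hlt N3.hroot N3.hcov
  · exact cover_node (by norm_num) N4.hlab N4.hlt N4.hroot N4.hcov

theorem hTD : ∀ j : Fin 5, ∀ d ∈ D j.1, ∃ k : Fin 5, ∃ h' ∈ HH,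
    Eqv HH (W j.1 * d * zz) (W k.1 * h') := by
  rintro j _ ⟨e, he, hej, rfl⟩
  have h1 := row_F e he
  have h2 := rows_lt e he
  refine ⟨⟨e.2.2.1, h2.1⟩, ev e.2.2.2, ev_mem _ h2.2, ?_⟩
  rw [← hej]
  exact h1

theorem hzz : zz * zz ∈ HH := by
  rw [zz_mul]
  exact ev_mem _ (by decide +kernel)

theorem hgen : Subgroup.closure ((HH : Set Γ) ∪ {zz}) = ⊤ := by
  rw [eq_top_iff, ← closure_L, Subgroup.closure_le]
  rintro _ ⟨c, hc, rfl⟩
  have hc' : c < 12 := hc
  have h : ∀ c, c < 12 → c = 5 ∨ c = 11 ∨ ∃ d, d < 10 ∧ q2l d = c := by decide +kernel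
  rcases h c hc' with rfl | rfl | ⟨d, hd, rfl⟩
  · exact Subgroup.subset_closure (Or.inr rfl)
  · rw [L11]
    exact Subgroup.inv_mem _ (Subgroup.subset_closure (Or.inr rfl))
  · apply Subgroup.subset_closure
    left
    have : ev [d] = L (q2l d) := by
      change prodA Lq [d] = _
      rw [prodA_cons, prodA_nil, one_mul]
      rfl
    rw [← this]
    apply ev_mem
    have hd2 : Nat.blt d 10 = true := by
      rw [Nat.blt_eq]
      exact hd
    simp [lt10, hd2]

/-- Every element is in one of the double cosets. -/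
theorem hcover (x : Γ) : ∃ j : Fin 5, ∃ h ∈ HH, Eqv HH x (W j.1 * h) :=
  cover_of_table HH zz hzz hgen (fun j : Fin 5 => W j.1) 0 rfl
    (table_of_reps HH KK zz hKz (fun j : Fin 5 => W j.1) (fun j : Fin 5 => S j.1) (fun _ _ hs => hs)
      (fun j : Fin 5 => D j.1) hcovAll hTD) x

/-- The bound for the index. -/
theorem bound : HH.index ≠ 0 ∧ HH.index ≤ 8835156 := by
  have hfin : ∀ j : Fin 5, ((S j.1).subgroupOf HH).index ≠ 0 := by
    intro j
    fin_cases j
    · exact idx0.1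
    · exact idx1.1
    · exact idx2.1
    · exact idx3.1
    · exact idx4.1
  have h := index_le_of_cover HH (fun j : Fin 5 => W j.1) (fun j : Fin 5 => S j.1) (fun _ _ hs => hs) hcover hfin
  refine ⟨h.1, le_trans h.2 ?_⟩
  rw [Fin.sum_univ_five]
  have h0 := idx0.2
  have h1 := idx1.2
  have h2 := idx2.2
  have h3 := idx3.2
  have h4 := idx4.2
  change ((S 0).subgroupOf HH).index + ((S 1).subgroupOf HH).index + ((S 2).subgroupOf HH).index +
    ((S 3).subgroupOf HH).index + ((S 4).subgroupOf HH).index ≤ 8835156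
  omega

end Cfsg.Agent.Lib.DCE.Ly.Cov.Bound
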