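import Cfsg.Agent.Lib.DCE.Ly.Cov.N1T
import Cfsg.Agent.Lib.DCE.Ly.Cov.Base

/-! The orbits on the cosets of `⟨a, b, c⟩` of the subgroup of the node `1`. -/

namespace Cfsg.Agent.Lib.DCE.Ly.Cov.N1

open Cfsg.Agent.Lib.TC.Core Cfsg.Agent.Lib.TC.Enc Cfsg.Agent.Lib.TC.Perm Cfsg.Agent.Lib.TC.Chain
  Cfsg.Agent.Lib.DCE.Ly.Setup Cfsg.Agent.Lib.DCE.Ly.Gens Cfsg.Agent.Lib.DCE.Ly.Cov.Base

set_option maxRecDepth 100000

/-- The number of generators. -/
def nT : Nat := 8

/-- The generators. -/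
abbrev ts : List (List Nat) := (gensT.getD 1 []).take 8

/-- The label of a point. -/
noncomputable def lab : Nat → Nat := cellF 9 511 20 1048575 0 3 Cfsg.Agent.Lib.DCE.Ly.Cov.N1T.tree.get
/-- The parent of a point. -/
noncomputable def oP : Nat → Nat := cellF 9 511 20 1048575 2 4095 Cfsg.Agent.Lib.DCE.Ly.Cov.N1T.tree.get
/-- The word of a point. -/
noncomputable def oW : Nat → Nat := cellF 9 511 20 1048575 14 7 Cfsg.Agent.Lib.DCE.Ly.Cov.N1T.tree.get
/-- The depth of a point. -/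
noncomputable def oD : Nat → Nat := cellF 9 511 20 1048575 17 7 Cfsg.Agent.Lib.DCE.Ly.Cov.N1T.tree.get
/-- The representatives of labels. -/
def repr (l : Nat) : Nat := [0,1,2,4].getD l 0
/-- The number of labels. -/
def nl : Nat := 4
/-- The words of the representatives. -/
def rootW : List (List Nat) :=
  [[],[3],[4],[3,4]]
/-- The words for the elements of the representatives. -/
def covT : List (List (Nat × List Nat × List Nat)) :=
  [[(1,[],[]),(8,[],[]),(8,[13,14,15],[5,6,7]),(8,[5],[]),(8,[6,7,5,14],[6,7])],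
   [(2,[5,5,5,5],[]),(6,[],[]),(6,[5,14,15],[5,6,7]),(6,[5,5,5],[]),(6,[6,5,7,14],[6,7])],
   [(13,[],[8]),(13,[11,0,11,10],[8]),(13,[2,3,8,3],[8]),(13,[0,11,5,5,4],[14,13,8]),(13,[15,3,7,10],[8])],
   [(4,[13,0,14,13,3,15],[5,6,7,6,11,11]),(4,[5,6,5,3,7,3],[5,6,7,6,11,11]),(4,[5,6,5,7,0,11],[5,6,7,6,11,11]),(4,[15,10,6,7,3],[15,14,9,9]),(4,[0,5,6,10,11,5,7],[5,6,7,6,11,11])]]

theorem hlab : ptQ.orbRange ts lab oP oW oD repr 0 ptQ.n = true := by decide +kernel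

theorem hlt : allBelow lab nl 3906 = true := by decide +kernel

theorem hroot : ∀ l, l < nl → andB (lt10 (rootW.getD l [])) (Nat.beq (ptQ.val (rootW.getD l []) 0) (repr l)) = true := by
  decide +kernel

theorem hcov : ∀ l, l < nl → ∀ i, i < 5 → chkCov 1 (rootW.getD l []) (i) ((covT.getD l []).getD i (0, [], [])) = true := by
  decide +kernel

end Cfsg.Agent.Lib.DCE.Ly.Cov.N1
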